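import Mathlib
import Groth.Prelude.Def_CohB1

/-!
# Closed subsets of projective space missing a hyperplane
-/

set_option autoImplicit false

universe u

open AlgebraicGeometry

namespace Groth.Agent.ProjDimZero7

variable {k : Type u} [Field k] {n : ℕ}

local notation "P" => MvPolynomial (Fin (n + 1)) k
local notation "𝒜" => CohB1.polyGrading n k

theorem X_mem (l : Fin (n + 1)) : (MvPolynomial.X l : P) ∈ 𝒜 1 := MvPolynomial.isHomogeneous_X k l

/-- A point of `Proj` misses some variable. -/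
theorem exists_X_notMem (p : ProjectiveSpectrum (𝒜)) :
    ∃ l : Fin (n + 1), (MvPolynomial.X l : P) ∉ p.asHomogeneousIdeal := by
  by_contra! h
  refine p.not_irrelevant_le fun g hg => ?_
  have h0 : MvPolynomial.homogeneousComponent 0 g = 0 := by
    have h1 := (HomogeneousIdeal.mem_irrelevant_iff _ g).1 hg
    rw [GradedRing.proj_apply] at h1
    exact (MvPolynomial.decomposition.decompose'_apply g 0).symm.trans h1
  have h2 : g ∈ Ideal.span (MvPolynomial.X '' (Set.univ : Set (Fin (n + 1))) : Set P) := by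
    rw [MvPolynomial.mem_ideal_span_X_image]
    intro m hm
    have hne : m ≠ 0 := by
      rintro rfl
      rw [MvPolynomial.homogeneousComponent_zero, MvPolynomial.C_eq_zero] at h0
      exact (MvPolynomial.mem_support_iff.1 hm) h0
    obtain ⟨l, hl⟩ := Finsupp.support_nonempty_iff.2 hne
    exact ⟨l, Set.mem_univ l, Finsupp.mem_support_iff.1 hl⟩
  refine (Ideal.span_le.2 ?_ : _ ≤ p.asHomogeneousIdeal.toIdeal) h2
  rintro _ ⟨l, -, rfl⟩
  exact h l

/-- The component of degree `N` of an element of a homogeneous ideal plus a multiple of a linear form. -/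
theorem exists_component {p : Ideal P} (hp : p.IsHomogeneous (𝒜)) {f : P} (hf : f ∈ 𝒜 1) {N : ℕ} {g : P}
    (hg : g ∈ 𝒜 (N + 1)) (h : g ∈ p ⊔ Ideal.span {f}) : ∃ b ∈ 𝒜 N, g - f * b ∈ p := by
  obtain ⟨a, ha, w, hw, rfl⟩ := Submodule.mem_sup.1 h
  obtain ⟨b, rfl⟩ := Ideal.mem_span_singleton'.1 hw
  refine ⟨DirectSum.decompose (𝒜) b N, (DirectSum.decompose (𝒜) b N).2, ?_⟩
  have h1 : ((DirectSum.decompose (𝒜) (a + b * f) (N + 1) : 𝒜 (N + 1)) : P) = a + b * f :=
    DirectSum.decompose_of_mem_same _ hg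
  rw [DirectSum.decompose_add, DirectSum.add_apply, Submodule.coe_add,
    DirectSum.coe_decompose_mul_add_of_right_mem (𝒜) hf] at h1
  rw [← h1, mul_comm f, add_sub_cancel_right]
  exact hp _ ha

/-- In high degree everything is a multiple of `f` modulo `p`. -/
theorem exists_mul_pow_sub_mem {p : Ideal P} (hp : p.IsHomogeneous (𝒜)) {f : P} (hf : f ∈ 𝒜 1) (N : ℕ)
    (hX : ∀ l, (MvPolynomial.X l : P) ^ (N + 1) ∈ p ⊔ Ideal.span {f}) :
    ∀ (j : ℕ) (h : P), h ∈ 𝒜 ((n + 1) * (N + 1) + j) →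
      ∃ m ∈ 𝒜 ((n + 1) * (N + 1)), h - f ^ j * m ∈ p := by
  classical
  intro j
  induction j with
  | zero => exact fun h hh => ⟨h, hh, by simp⟩
  | succ j ih =>
    intro h hh
    suffices key : ∀ d : (Fin (n + 1)) →₀ ℕ, d ∈ h.support →
        ∃ b ∈ 𝒜 ((n + 1) * (N + 1) + j), MvPolynomial.monomial d (h.coeff d) - f * b ∈ p by
      choose! b hb hbp using key
      obtain ⟨m, hm, hmp⟩ := ih (∑ d ∈ h.support, b d) (Submodule.sum_mem _ hb)
      refine ⟨m, hm, ?_⟩
      have h1 : ∑ d ∈ h.support, (MvPolynomial.monomial d (h.coeff d) - f * b d) ∈ p := Ideal.sum_mem _ hbp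
      rw [Finset.sum_sub_distrib, ← Finset.mul_sum, MvPolynomial.support_sum_monomial_coeff] at h1
      have h2 := add_mem h1 (p.mul_mem_left f hmp)
      have e : h - f ^ (j + 1) * m = (h - f * ∑ d ∈ h.support, b d) + f * ((∑ d ∈ h.support, b d) - f ^ j * m) := by
        ring
      rw [e]
      exact h2
    intro d hd
    have hdeg : d.degree = (n + 1) * (N + 1) + (j + 1) := by
      rw [Finsupp.degree_eq_weight_one]
      exact hh (MvPolynomial.mem_support_iff.1 hd)
    obtain ⟨l, hl⟩ : ∃ l, N + 1 ≤ d l := by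
      by_contra! hlt
      have : d.degree ≤ (n + 1) * N := by
        rw [Finsupp.degree_eq_sum]
        refine (Finset.sum_le_sum fun l _ => Nat.le_of_lt_succ (hlt l)).trans ?_
        simp
      nlinarith
    obtain ⟨b, hb, hbp⟩ := exists_component hp hf
      (by simpa using SetLike.pow_mem_graded (N + 1) (X_mem (k := k) l)) (hX l)
    let d' := d - Finsupp.single l (N + 1)
    have hd' : Finsupp.single l (N + 1) + d' = d := add_tsub_cancel_of_le (Finsupp.single_le_iff.2 hl)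
    have hdeg' : d'.degree + 1 + N = d.degree := by
      conv_rhs => rw [← hd', map_add, Finsupp.degree_single]
      omega
    refine ⟨b * MvPolynomial.monomial d' (h.coeff d), ?_, ?_⟩
    · have h3 : MvPolynomial.monomial d' (h.coeff d) ∈ 𝒜 d'.degree :=
        MvPolynomial.isHomogeneous_monomial _ rfl
      have h4 := SetLike.mul_mem_graded hb h3
      have e : N + d'.degree = (n + 1) * (N + 1) + j := by omega
      rwa [e] at h4
    · have e : MvPolynomial.monomial d (h.coeff d) =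
          (MvPolynomial.X l : P) ^ (N + 1) * MvPolynomial.monomial d' (h.coeff d) := by
        rw [MvPolynomial.X_pow_eq_monomial, MvPolynomial.monomial_mul, one_mul, hd']
      rw [e, ← mul_assoc, ← sub_mul]
      exact p.mul_mem_right _ hbp

/-- Points of a closed set missing a hyperplane do not specialise. -/
theorem eq_of_le {Z : Set (ProjectiveSpectrum (𝒜))} (hZ : IsClosed Z) {f : P} (hf : f ∈ 𝒜 1)
    (hZf : Disjoint Z (ProjectiveSpectrum.zeroLocus (𝒜) {f})) {p q : ProjectiveSpectrum (𝒜)} (hpZ : p ∈ Z)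
    (hle : p.asHomogeneousIdeal ≤ q.asHomogeneousIdeal) : p = q := by
  classical
  have hup : ∀ r : ProjectiveSpectrum (𝒜), p.asHomogeneousIdeal ≤ r.asHomogeneousIdeal → r ∈ Z := fun r hr =>
    closure_minimal (Set.singleton_subset_iff.2 hpZ) hZ ((ProjectiveSpectrum.le_iff_mem_closure (𝒜) (x := p) r).1 hr)
  have hfmem : ∀ r ∈ Z, f ∉ r.asHomogeneousIdeal := fun r hr h =>
    Set.disjoint_left.1 hZf hr (by
      rw [ProjectiveSpectrum.mem_zeroLocus, Set.singleton_subset_iff]
      exact h)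
  let J : Ideal P := p.asHomogeneousIdeal.toIdeal ⊔ Ideal.span {f}
  have hJ : J.IsHomogeneous (𝒜) :=
    p.asHomogeneousIdeal.isHomogeneous.sup (Ideal.homogeneous_span _ _ fun x hx => ⟨1, Set.mem_singleton_iff.1 hx ▸ hf⟩)
  have hrad : ∀ l, (MvPolynomial.X l : P) ∈ J.radical := by
    intro l
    rw [hJ.radical_eq, Submodule.mem_sInf]
    rintro r ⟨hr1, hr2, hr3⟩
    by_contra hl
    let pt : ProjectiveSpectrum (𝒜) :=
      ⟨⟨r, hr1⟩, hr3, fun h => hl (h (by
        show MvPolynomial.X l ∈ HomogeneousIdeal.irrelevant (𝒜)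
        exact HomogeneousIdeal.mem_irrelevant_of_mem (𝒜) Nat.one_pos (X_mem l)))⟩
    have hfJ : f ∈ J := Submodule.mem_sup_right (Ideal.mem_span_singleton_self f)
    have hpJ : ∀ z ∈ p.asHomogeneousIdeal.toIdeal, z ∈ J := fun z hz => Submodule.mem_sup_left hz
    have hpt : ∀ z, z ∈ pt.asHomogeneousIdeal ↔ z ∈ r := fun z => Iff.rfl
    refine hfmem pt (hup pt ?_) ((hpt f).2 (hr2 hfJ))
    intro z hz
    exact (hpt z).2 (hr2 (hpJ z hz))
  choose N hN using hrad
  let N₀ := Finset.univ.sum N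
  have hX : ∀ l, (MvPolynomial.X l : P) ^ (N₀ + 1) ∈ J := fun l =>
    Ideal.pow_mem_of_pow_mem _ (hN l) ((Finset.single_le_sum (fun i _ => Nat.zero_le (N i)) (Finset.mem_univ l)).trans
      (Nat.le_succ N₀))
  let M := (n + 1) * (N₀ + 1)
  have hs := exists_mul_pow_sub_mem p.asHomogeneousIdeal.isHomogeneous hf N₀ hX
  by_contra hne
  obtain ⟨g, hgq, hgp⟩ : ∃ g ∈ q.asHomogeneousIdeal, g ∉ p.asHomogeneousIdeal := by
    by_contra! h
    exact hne (ProjectiveSpectrum.ext (le_antisymm hle h))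
  obtain ⟨e, hge⟩ : ∃ e, ((DirectSum.decompose (𝒜) g e : 𝒜 e) : P) ∉ p.asHomogeneousIdeal := by
    by_contra! h
    apply hgp
    rw [← DirectSum.sum_support_decompose (𝒜) g]
    exact Ideal.sum_mem p.asHomogeneousIdeal.toIdeal fun i _ => h i
  let g₀ : P := (DirectSum.decompose (𝒜) g e : 𝒜 e)
  have hg₀ : g₀ ∈ 𝒜 e := (DirectSum.decompose (𝒜) g e).2
  have hg₀q : g₀ ∈ q.asHomogeneousIdeal := q.asHomogeneousIdeal.isHomogeneous e hgq
  have hfin : Module.Finite k (𝒜 M) := Module.Finite.iff_fg.2 (MvPolynomial.homogeneousSubmodule_fg _ _ M)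
  let D := Module.finrank k (𝒜 M)
  let j₀ := (D * (e + 1) + 0)
  let mk : P →ₗ[k] P ⧸ p.asHomogeneousIdeal.toIdeal := (Ideal.Quotient.mkₐ k _).toLinearMap
  -- a large common degree
  let T := M + D * e
  let φ : 𝒜 M →ₗ[k] P ⧸ p.asHomogeneousIdeal.toIdeal :=
    mk.comp ((LinearMap.mulLeft k (f ^ (D * e))).comp (𝒜 M).subtype)
  let w : Fin (D + 1) → P := fun i => g₀ ^ (i : ℕ) * f ^ (e * (D - (i : ℕ)) + M)
  have hw : ∀ i, mk (w i) ∈ LinearMap.range φ := by
    intro i
    have hdeg : w i ∈ 𝒜 (M + D * e) := by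
      have := SetLike.mul_mem_graded (SetLike.pow_mem_graded (i : ℕ) hg₀)
        (SetLike.pow_mem_graded (e * (D - (i : ℕ)) + M) hf)
      have hi : (i : ℕ) ≤ D := Nat.lt_succ_iff.1 i.2
      have e1 : (i : ℕ) • e + (e * (D - (i : ℕ)) + M) • 1 = M + D * e := by
        simp only [smul_eq_mul, mul_one]
        have h7 : e * ((i : ℕ) + (D - (i : ℕ))) = e * D := by rw [Nat.add_sub_cancel' hi]
        rw [mul_add] at h7
        rw [mul_comm (i : ℕ) e, mul_comm D e]
        omega
      rwa [e1] at this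
    obtain ⟨m, hm, hmp⟩ := hs (D * e) (w i) hdeg
    refine ⟨⟨m, hm⟩, ?_⟩
    show mk (f ^ (D * e) * m) = mk (w i)
    exact ((Ideal.Quotient.eq).2 hmp).symm
  let w' : Fin (D + 1) → LinearMap.range φ := fun i => ⟨mk (w i), hw i⟩
  have hdep : ¬ LinearIndependent k w' := by
    intro hli
    have h1 := hli.fintype_card_le_finrank
    have h2 := LinearMap.finrank_range_le φ
    rw [Fintype.card_fin] at h1
    omega
  obtain ⟨c, hc, i₁, hi₁⟩ := Fintype.not_linearIndependent_iff.1 hdep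
  have hsum : ∑ i, c i • w i ∈ p.asHomogeneousIdeal := by
    refine Ideal.Quotient.eq_zero_iff_mem.1 ?_
    have h3 := congrArg Subtype.val hc
    simp only [Submodule.coe_sum, Submodule.coe_smul, Submodule.coe_zero, w'] at h3
    show mk (∑ i, c i • w i) = 0
    rw [map_sum]
    simpa only [map_smul] using h3
  -- the lowest coefficient
  let S₀ := Finset.univ.filter fun i => c i ≠ 0
  have hS₀ : S₀.Nonempty := ⟨i₁, by simp [S₀, hi₁]⟩
  let i₀ := S₀.min' hS₀
  have hi₀ : c i₀ ≠ 0 := (Finset.mem_filter.1 (S₀.min'_mem hS₀)).2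
  let rest : P := ∑ i, c i • (g₀ ^ ((i : ℕ) - (i₀ : ℕ)) * f ^ (e * (D - (i : ℕ)) + M))
  have hfac : ∑ i, c i • w i = g₀ ^ (i₀ : ℕ) * rest := by
    rw [Finset.mul_sum]
    refine Finset.sum_congr rfl fun i _ => ?_
    by_cases hci : c i = 0
    · simp [hci]
    · have : i₀ ≤ i := S₀.min'_le i (by simp [S₀, hci])
      rw [mul_smul_comm, ← mul_assoc, ← pow_add, Nat.add_sub_cancel' (Fin.le_iff_val_le_val.1 this)]
  have hrest : rest ∈ p.asHomogeneousIdeal := by
    rw [hfac] at hsum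
    exact (p.isPrime.mem_or_mem hsum).resolve_left fun h => hge (p.isPrime.mem_of_pow_mem _ h)
  have hdiff : rest - c i₀ • f ^ (e * (D - (i₀ : ℕ)) + M) ∈ q.asHomogeneousIdeal.toIdeal := by
    have : rest - c i₀ • f ^ (e * (D - (i₀ : ℕ)) + M) =
        ∑ i ∈ Finset.univ.erase i₀, c i • (g₀ ^ ((i : ℕ) - (i₀ : ℕ)) * f ^ (e * (D - (i : ℕ)) + M)) := by
      rw [sub_eq_iff_eq_add]
      refine ((Finset.sum_erase_add _ _ (Finset.mem_univ i₀)).symm.trans ?_)
      simp
    rw [this]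
    refine Ideal.sum_mem _ fun i hi => ?_
    by_cases hci : c i = 0
    · simp [hci]
    · have h5 : i₀ ≤ i := S₀.min'_le i (by simp [S₀, hci])
      have h6 : (i₀ : ℕ) < (i : ℕ) := lt_of_le_of_ne h5 fun h => (Finset.mem_erase.1 hi).1 (Fin.ext h.symm)
      rw [MvPolynomial.smul_eq_C_mul]
      exact Ideal.mul_mem_left _ _ (Ideal.mul_mem_right _ _ (Ideal.pow_mem_of_mem _ hg₀q _ (by omega)))
  have hlast : c i₀ • f ^ (e * (D - (i₀ : ℕ)) + M) ∈ q.asHomogeneousIdeal.toIdeal := by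
    have hrest' : rest ∈ q.asHomogeneousIdeal.toIdeal := hle hrest
    have := sub_mem hrest' hdiff
    rwa [sub_sub_cancel] at this
  rw [MvPolynomial.smul_eq_C_mul] at hlast
  refine hfmem q (hup q hle) (q.isPrime.mem_of_pow_mem _ ((q.isPrime.mem_or_mem hlast).resolve_left fun h => ?_))
  exact q.isPrime.ne_top (Ideal.eq_top_of_isUnit_mem _ h ((isUnit_iff_ne_zero.2 hi₀).map MvPolynomial.C))

/-- A nonempty closed set missing a hyperplane has dimension zero. -/
theorem dim_eq_zero {Z : Set (ProjectiveSpectrum (𝒜))} (hZ : IsClosed Z) (hne : Z.Nonempty) {f : P}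
    (hf : f ∈ 𝒜 1) (hZf : Disjoint Z (ProjectiveSpectrum.zeroLocus (𝒜) {f})) :
    topologicalKrullDim ↥Z = 0 := by
  haveI := hne.to_subtype
  haveI : Nonempty (TopologicalSpace.IrreducibleCloseds ↥Z) :=
    ⟨⟨closure {Classical.arbitrary ↥Z}, isIrreducible_singleton.closure, isClosed_closure⟩⟩
  refine le_antisymm (Order.krullDim_nonpos_iff_forall_isMin.2 ?_) Order.krullDim_nonneg
  intro T T' hT a ha
  obtain ⟨b, hb⟩ := T'.isIrreducible'.nonempty
  have hsub : T'.carrier ⊆ T.carrier := hT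
  -- the image of `T` in the projective spectrum has a generic point
  have himg : IsIrreducible ((fun z : ↥Z => z.1) '' T.carrier) :=
    T.isIrreducible'.image _ continuous_subtype_val.continuousOn
  obtain ⟨η, hη⟩ : ∃ η, IsGenericPoint η ((fun z : ↥Z => z.1) '' T.carrier) := by
    have hc : IsClosed ((fun z : ↥Z => z.1) '' T.carrier) :=
      hZ.isClosedEmbedding_subtypeVal.isClosedMap _ T.isClosed'
    exact QuasiSober.sober (α := ↥(Proj (𝒜))) himg hc
  have hηZ : η ∈ Z := by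
    obtain ⟨z, -, hz⟩ := hη.mem
    exact hz ▸ z.2
  have hpt : ∀ z ∈ T.carrier, (z : ↥Z).1 = η := by
    intro z hz
    have h : η ⤳ z.1 := hη.specializes ⟨z, hz, rfl⟩
    exact (eq_of_le hZ hf hZf hηZ ((ProjectiveSpectrum.le_iff_mem_closure (𝒜) _ _).2 h.mem_closure)).symm
  have : a = b := Subtype.ext ((hpt a ha).trans (hpt b (hsub hb)).symm)
  exact this ▸ hb

end Groth.Agent.ProjDimZero7
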